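import Groth.Agent.Lib.SmoothConn.Stage
import Groth.Agent.Lib.Hensel.Local
import Groth.Agent.Lib.EtSec.SHull
import Groth.Agent.Lib.BaseChange.Irred
import Mathlib.AlgebraicGeometry.Geometrically.Connected
import Mathlib.RingTheory.Ideal.Pure
import Mathlib.FieldTheory.IsSepClosed

/-!
# Local connectedness of smooth algebras

Let `RS` be a henselian local `R₀`-algebra, weakly etale over `R₀`, with separably closed residue
field, and `H` a hull of an algebra etale over `R₀[X₁,…,Xₙ]`, flat and local over `RS`. Then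
`Spec H → Spec RS` has connected geometric fibres.
-/

universe u

namespace GrothLib.SmoothConn

open CategoryTheory CategoryTheory.Limits AlgebraicGeometry GrothLib.Hensel
open scoped TensorProduct

/-- A domain integral over a henselian local ring is local. -/
theorem isLocalRing_of_integral_domain (R S : Type u) [CommRing R] [HenselianLocalRing R] [CommRing S] [IsDomain S]
    [Algebra R S] [Algebra.IsIntegral R S] : IsLocalRing S := by
  refine .of_nonunits_add fun {a b} ha hb => ?_
  intro hab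
  let T : Subalgebra R S := Algebra.adjoin R {a, b}
  haveI : Module.Finite R T :=
    Algebra.finite_adjoin_of_finite_of_isIntegral ((Set.finite_singleton b).insert a)
      fun x _ => Algebra.IsIntegral.isIntegral x
  haveI : Algebra.IsIntegral R T := Algebra.IsIntegral.of_finite R T
  obtain ⟨_, e, he, hei, -, hloc⟩ := exists_completeOrthogonalIdempotents_isLocalRing (R := R) (S := T)
  have h01 : ∀ i, e i = 1 := fun i => by
    rcases IsIdempotentElem.iff_eq_zero_or_one.1 (he.idem i) with h | h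
    · exact absurd (h ▸ i.asIdeal.zero_mem) (hei i)
    · exact h
  obtain ⟨i⟩ : Nonempty (MaximalSpectrum T) := inferInstance
  haveI := hloc i
  have hbot : Ideal.span {1 - e i} = (⊥ : Ideal T) := by rw [h01 i, sub_self, Ideal.span_singleton_eq_bot]
  haveI : IsLocalRing T :=
    ((Ideal.quotEquivOfEq hbot).trans (RingEquiv.quotientBot T)).isLocalRing
  haveI : IsLocalHom (T.val.toRingHom) := ⟨fun x hx => by
    haveI : Algebra.IsIntegral T S := ⟨fun y => (Algebra.IsIntegral.isIntegral (R := R) y).tower_top⟩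
    by_contra hu
    obtain ⟨m, hm, hxm⟩ := exists_max_ideal_of_mem_nonunits hu
    obtain ⟨M, -, hMp, hMc⟩ := Ideal.exists_ideal_over_prime_of_isIntegral (S := S) m (⊥ : Ideal S) (by
      intro z hz
      have : z = 0 := Subtype.ext (by simpa using hz)
      exact this ▸ m.zero_mem)
    exact hMp.ne_top (Ideal.eq_top_of_isUnit_mem M (hMc ▸ hxm : x ∈ M.comap (algebraMap T S)) hx)⟩
  have ha' : a ∈ T := Algebra.subset_adjoin (Set.mem_insert a {b})
  have hb' : b ∈ T := Algebra.subset_adjoin (Set.mem_insert_of_mem a rfl)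
  have h1 : IsUnit (⟨a, ha'⟩ + ⟨b, hb'⟩ : T) := isUnit_of_map_unit T.val.toRingHom _ hab
  rcases IsLocalRing.isUnit_or_isUnit_of_isUnit_add h1 with h | h
  · exact ha (h.map T.val)
  · exact hb (h.map T.val)

section Tensor

variable (RS H A : Type u) [CommRing RS] [IsLocalRing RS] [CommRing H] [IsLocalRing H] [CommRing A] [IsLocalRing A]
  [Algebra RS H] [IsLocalHom (algebraMap RS H)] [Algebra RS A] [IsLocalHom (algebraMap RS A)]
  [Algebra.IsIntegral RS A] [IsSepClosed (IsLocalRing.ResidueField RS)]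

open IsLocalRing in
omit [IsSepClosed (IsLocalRing.ResidueField RS)] in
/-- The residue fields embed in a common field, so the tensor product is nonzero. -/
theorem nontrivial_tensor : Nontrivial (H ⊗[RS] A) := by
  haveI : Algebra.IsAlgebraic (ResidueField RS) (ResidueField A) := by
    refine ⟨fun x => ?_⟩
    obtain ⟨a, rfl⟩ := residue_surjective x
    exact (((Algebra.IsIntegral.isIntegral (R := RS) a).map
      (IsScalarTower.toAlgHom RS A (ResidueField A))).tower_top).isAlgebraic
  let σ : ResidueField A →ₐ[ResidueField RS] AlgebraicClosure (ResidueField H) := IsAlgClosed.lift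
  let fH : H →ₐ[RS] AlgebraicClosure (ResidueField H) :=
    (IsScalarTower.toAlgHom RS (ResidueField H) _).comp (IsScalarTower.toAlgHom RS H (ResidueField H))
  let fA : A →ₐ[RS] AlgebraicClosure (ResidueField H) :=
    (σ.restrictScalars RS).comp (IsScalarTower.toAlgHom RS A (ResidueField A))
  exact (Algebra.TensorProduct.productMap fH fA).toRingHom.domain_nontrivial

open IsLocalRing in
/-- The tensor product with an integral local algebra is local, when the residue field is separably closed. -/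
theorem isLocalRing_tensor : IsLocalRing (H ⊗[RS] A) := by
  haveI : Nontrivial (H ⊗[RS] A) := nontrivial_tensor RS H A
  let ι : H →+* H ⊗[RS] A := Algebra.TensorProduct.includeLeftRingHom
  let κ : A →+* H ⊗[RS] A := (Algebra.TensorProduct.includeRight (R := RS) (A := H) (B := A)).toRingHom
  have hικ : ∀ r, ι (algebraMap RS H r) = κ (algebraMap RS A r) := fun r =>
    ((Algebra.TensorProduct.includeRight (R := RS) (A := H) (B := A)).commutes r).symm
  haveI : Algebra.IsAlgebraic (ResidueField RS) (ResidueField A) := by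
    refine ⟨fun x => ?_⟩
    obtain ⟨a, rfl⟩ := residue_surjective x
    exact (((Algebra.IsIntegral.isIntegral (R := RS) a).map
      (IsScalarTower.toAlgHom RS A (ResidueField A))).tower_top).isAlgebraic
  let ℓ := ringExpChar (ResidueField RS)
  haveI : ExpChar (ResidueField RS) ℓ := inferInstance
  -- maximal ideals contain the maximal ideals of the factors
  have hH : ∀ M : Ideal (H ⊗[RS] A), M.IsMaximal → M.comap ι = maximalIdeal H := fun M hM => by
    have : (M.comap (algebraMap H (H ⊗[RS] A))).IsMaximal := Ideal.isMaximal_comap_of_isIntegral_of_isMaximal M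
    exact eq_maximalIdeal this
  have hA : ∀ M : Ideal (H ⊗[RS] A), M.IsMaximal → M.comap κ = maximalIdeal A := fun M hM => by
    haveI : (M.comap κ).IsPrime := Ideal.IsPrime.comap κ
    refine eq_maximalIdeal (Ideal.isMaximal_of_isIntegral_of_isMaximal_comap (R := RS) _ ?_)
    have h1 : (M.comap κ).comap (algebraMap RS A) = maximalIdeal RS := by
      rw [Ideal.comap_comap, show κ.comp (algebraMap RS A) = ι.comp (algebraMap RS H) from
        RingHom.ext fun r => (hικ r).symm, ← Ideal.comap_comap, hH M hM]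
      exact ((local_hom_TFAE (algebraMap RS H)).out 0 4).1 ‹_›
    rw [h1]
    infer_instance
  have key : ∀ x : H ⊗[RS] A, ∃ (e : ℕ) (h : H), ∀ M : Ideal (H ⊗[RS] A), M.IsMaximal →
      x ^ ℓ ^ e - ι h ∈ M := by
    intro x
    induction x with
    | zero => exact ⟨0, 0, fun M _ => by simp⟩
    | tmul h a =>
      obtain ⟨e, y, hy⟩ := IsPurelyInseparable.pow_mem (ResidueField RS) ℓ (residue A a)
      obtain ⟨r, rfl⟩ := residue_surjective y
      refine ⟨e, h ^ ℓ ^ e * algebraMap RS H r, fun M hM => ?_⟩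
      have h1 : a ^ ℓ ^ e - algebraMap RS A r ∈ maximalIdeal A := by
        rw [← residue_eq_zero_iff, map_sub, map_pow, ← hy, sub_eq_zero]
        rfl
      have h2 : κ (a ^ ℓ ^ e - algebraMap RS A r) ∈ M := by
        rw [← hA M hM] at h1; exact h1
      have h3 : (h ⊗ₜ[RS] a) ^ ℓ ^ e - ι (h ^ ℓ ^ e * algebraMap RS H r) =
          ι (h ^ ℓ ^ e) * κ (a ^ ℓ ^ e - algebraMap RS A r) := by
        rw [map_mul, hικ, map_sub, mul_sub]
        congr 1
        show _ = (h ^ ℓ ^ e) ⊗ₜ[RS] (1 : A) * ((1 : H) ⊗ₜ[RS] (a ^ ℓ ^ e))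
        rw [Algebra.TensorProduct.tmul_mul_tmul, mul_one, one_mul, Algebra.TensorProduct.tmul_pow]
      rw [h3]
      exact M.mul_mem_left _ h2
    | add x y hx hy =>
      obtain ⟨e₁, h₁, hx⟩ := hx
      obtain ⟨e₂, h₂, hy⟩ := hy
      refine ⟨e₁ + e₂, h₁ ^ ℓ ^ e₂ + h₂ ^ ℓ ^ e₁, fun M hM => ?_⟩
      let g := Ideal.Quotient.mk M
      letI := Ideal.Quotient.field M
      let j : ResidueField RS →+* (H ⊗[RS] A) ⧸ M :=
        Ideal.Quotient.lift (maximalIdeal RS) (g.comp (ι.comp (algebraMap RS H))) fun r hr => by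
          rw [RingHom.comp_apply, RingHom.comp_apply, Ideal.Quotient.eq_zero_iff_mem, ← Ideal.mem_comap, hH M hM]
          exact map_nonunit (algebraMap RS H) r hr
      haveI : ExpChar ((H ⊗[RS] A) ⧸ M) ℓ := expChar_of_injective_ringHom j.injective ℓ
      have hx' := hx M hM
      have hy' := hy M hM
      rw [← Ideal.Quotient.eq_zero_iff_mem, map_sub, sub_eq_zero, map_pow] at hx' hy' ⊢
      rw [map_add, add_pow_expChar_pow, map_add, map_pow, map_pow, map_add, map_pow, map_pow]
      congr 1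
      · rw [pow_add, pow_mul, hx']
      · rw [add_comm e₁ e₂, pow_add, pow_mul, hy']
  obtain ⟨M, hM⟩ := Ideal.exists_maximal (H ⊗[RS] A)
  refine IsLocalRing.of_unique_max_ideal ⟨M, hM, fun M' hM' => (hM'.eq_of_le hM.ne_top fun x hx => ?_)⟩
  obtain ⟨e, h, hh⟩ := key x
  have hq : 0 < ℓ ^ e := pow_pos (expChar_pos (ResidueField RS) ℓ) e
  have h1 : ι h ∈ M' := by
    have := M'.sub_mem (Ideal.pow_mem_of_mem M' hx _ hq) (hh M' hM')
    rwa [sub_sub_cancel] at this
  have h2 : ι h ∈ M := by
    rw [← Ideal.mem_comap, hH M hM, ← hH M' hM', Ideal.mem_comap]; exact h1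
  refine hM.isPrime.mem_of_pow_mem (ℓ ^ e) ?_
  have := M.add_mem (hh M hM) h2
  rwa [sub_add_cancel] at this

end Tensor

section Kernel

variable {R₀ RS H A : Type u} [CommRing R₀] [CommRing RS] [CommRing H] [CommRing A] [Algebra R₀ RS]
  [Algebra RS H] [Algebra RS A] [Algebra R₀ H] [IsScalarTower R₀ RS H] [Algebra R₀ A] [IsScalarTower R₀ RS A]
  [Algebra.WeaklyEtale R₀ RS]
  {n : ℕ} [Algebra (MvPolynomial (Fin n) R₀) H] [IsScalarTower R₀ (MvPolynomial (Fin n) R₀) H]

theorem exists_eq_mul_of_lmul_eq_zero (z : RS ⊗[R₀] RS) (hz : Algebra.TensorProduct.lmul' R₀ z = 0) :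
    ∃ w, Algebra.TensorProduct.lmul' R₀ w = 0 ∧ z = z * w := by
  let l := (Algebra.TensorProduct.lmul' R₀ (S := RS)).toRingHom
  letI : Algebra (RS ⊗[R₀] RS) RS := l.toAlgebra
  have hs : Function.Surjective (Algebra.ofId (RS ⊗[R₀] RS) RS) := fun a =>
    ⟨a ⊗ₜ 1, by show Algebra.TensorProduct.lmul' R₀ (a ⊗ₜ[R₀] (1 : RS)) = a; simp⟩
  haveI : Module.Flat (RS ⊗[R₀] RS) RS := Algebra.WeaklyEtale.flat_lmul' R₀ RS
  haveI : (RingHom.ker (Algebra.ofId (RS ⊗[R₀] RS) RS)).Pure :=
    Module.Flat.of_linearEquiv (Ideal.quotientKerAlgEquivOfSurjective hs).toLinearEquiv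
  exact Ideal.exists_eq_mul_of_pure (I := RingHom.ker (Algebra.ofId (RS ⊗[R₀] RS) RS)) hz

variable [Algebra (MvPolynomial (Fin n) R₀) (MvPolynomial (Fin n) A)]

set_option backward.isDefEq.respectTransparency false in
/-- The comparison of the two base changes is a localization. -/
theorem exists_surjective_killed
    (hQ : algebraMap (MvPolynomial (Fin n) R₀) (MvPolynomial (Fin n) A) = MvPolynomial.map (algebraMap R₀ A)) :
    ∃ π : MvPolynomial (Fin n) A ⊗[MvPolynomial (Fin n) R₀] H →+* H ⊗[RS] A, Function.Surjective π ∧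
      ∀ c, π c = 0 → ∃ t, π t = 1 ∧ t * c = 0 := by
  classical
  let P := MvPolynomial (Fin n) R₀
  let Q := MvPolynomial (Fin n) A
  let ι : H →+* H ⊗[RS] A := Algebra.TensorProduct.includeLeftRingHom
  let κ : A →+* H ⊗[RS] A := (Algebra.TensorProduct.includeRight (R := RS) (A := H) (B := A)).toRingHom
  have hικ : ∀ r, ι (algebraMap RS H r) = κ (algebraMap RS A r) := fun r =>
    ((Algebra.TensorProduct.includeRight (R := RS) (A := H) (B := A)).commutes r).symm
  letI algPB : Algebra P (H ⊗[RS] A) := (ι.comp (algebraMap P H)).toAlgebra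
  let jQ : Q →+* H ⊗[RS] A :=
    MvPolynomial.eval₂Hom κ fun i => ι (algebraMap P H (MvPolynomial.X i))
  have hjQ : jQ.comp (algebraMap P Q) = ι.comp (algebraMap P H) := by
    rw [hQ]
    refine MvPolynomial.ringHom_ext (fun r => ?_) fun i => ?_
    · show jQ (MvPolynomial.map (algebraMap R₀ A) (MvPolynomial.C r)) = ι (algebraMap P H (MvPolynomial.C r))
      rw [MvPolynomial.map_C, show jQ (MvPolynomial.C (algebraMap R₀ A r)) = κ (algebraMap R₀ A r) from
        MvPolynomial.eval₂Hom_C _ _ _, show algebraMap P H (MvPolynomial.C r) = algebraMap R₀ H r from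
        (IsScalarTower.algebraMap_apply R₀ P H r).symm, IsScalarTower.algebraMap_apply R₀ RS A,
        IsScalarTower.algebraMap_apply R₀ RS H, hικ]
    · show jQ (MvPolynomial.map (algebraMap R₀ A) (MvPolynomial.X i)) = ι (algebraMap P H (MvPolynomial.X i))
      rw [MvPolynomial.map_X]
      exact MvPolynomial.eval₂Hom_X' _ _ i
  let jQ' : Q →ₐ[P] H ⊗[RS] A := { jQ with commutes' := RingHom.congr_fun hjQ }
  let jH' : H →ₐ[P] H ⊗[RS] A := { ι with commutes' := fun _ => rfl }
  let π : Q ⊗[P] H →+* H ⊗[RS] A := (Algebra.TensorProduct.productMap jQ' jH').toRingHom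
  have hπ : ∀ (q : Q) (h : H), π (q ⊗ₜ h) = jQ q * ι h := fun q h => rfl
  let iQ : Q →+* Q ⊗[P] H := Algebra.TensorProduct.includeLeftRingHom
  let iH : H →+* Q ⊗[P] H := (Algebra.TensorProduct.includeRight (R := P) (A := Q) (B := H)).toRingHom
  have hiPQ : ∀ p, iQ (algebraMap P Q p) = iH (algebraMap P H p) := fun p =>
    ((Algebra.TensorProduct.includeRight (R := P) (A := Q) (B := H)).commutes p).symm
  have hπQ : ∀ q, π (iQ q) = jQ q := fun q => by
    show π (q ⊗ₜ 1) = _
    rw [hπ, map_one, mul_one]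
  have hπH : ∀ h, π (iH h) = ι h := fun h => by
    show π ((1 : Q) ⊗ₜ h) = _
    rw [hπ, map_one, one_mul]
  refine ⟨π, fun b => ?_, fun c hc => ?_⟩
  · induction b with
    | zero => exact ⟨0, map_zero π⟩
    | tmul h a =>
      refine ⟨MvPolynomial.C a ⊗ₜ h, ?_⟩
      rw [hπ, show jQ (MvPolynomial.C a) = κ a from MvPolynomial.eval₂Hom_C _ _ a]
      show (1 : H) ⊗ₜ[RS] a * h ⊗ₜ[RS] (1 : A) = _
      rw [Algebra.TensorProduct.tmul_mul_tmul, one_mul, mul_one]
    | add x y hx hy =>
      obtain ⟨x', rfl⟩ := hx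
      obtain ⟨y', rfl⟩ := hy
      exact ⟨x' + y', map_add π x' y'⟩
  -- the ideal of killed elements
  let Z : Ideal (Q ⊗[P] H) :=
    { carrier := {c | ∃ t, π t = 1 ∧ t * c = 0}
      zero_mem' := ⟨1, map_one π, mul_zero 1⟩
      add_mem' := fun {a b} ⟨t, ht, hta⟩ ⟨s, hs, hsb⟩ => ⟨t * s, by rw [map_mul, ht, hs, one_mul], by
        rw [mul_add, mul_comm t s, mul_assoc, hta, mul_zero, zero_add, mul_comm s t, mul_assoc, hsb, mul_zero]⟩
      smul_mem' := fun a b ⟨t, ht, htb⟩ => ⟨t, ht, by rw [smul_eq_mul, mul_left_comm, htb, mul_zero]⟩ }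
  let fA : RS →ₐ[R₀] Q ⊗[P] H :=
    { toRingHom := iQ.comp (MvPolynomial.C.comp (algebraMap RS A))
      commutes' := fun r => by
        show iQ (MvPolynomial.C (algebraMap RS A (algebraMap R₀ RS r))) = algebraMap R₀ (Q ⊗[P] H) r
        rw [← IsScalarTower.algebraMap_apply]
        rfl }
  have hfH : ∀ r : R₀, iH (algebraMap RS H (algebraMap R₀ RS r)) = fA (algebraMap R₀ RS r) := fun r => by
    show _ = iQ (MvPolynomial.C (algebraMap RS A (algebraMap R₀ RS r)))
    rw [← IsScalarTower.algebraMap_apply, ← IsScalarTower.algebraMap_apply, IsScalarTower.algebraMap_apply R₀ P H,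
      ← hiPQ, hQ, MvPolynomial.algebraMap_eq, MvPolynomial.map_C]
  let fH : RS →ₐ[R₀] Q ⊗[P] H :=
    { toRingHom := iH.comp (algebraMap RS H)
      commutes' := fun r => (hfH r).trans (fA.commutes r) }
  let σ : RS ⊗[R₀] RS →+* Q ⊗[P] H := (Algebra.TensorProduct.productMap fA fH).toRingHom
  have hσ : ∀ a b, σ (a ⊗ₜ b) = fA a * fH b := fun a b => rfl
  have hπσ : ∀ z, π (σ z) = κ (algebraMap RS A (Algebra.TensorProduct.lmul' R₀ z)) := fun z => by
    induction z with
    | zero => simp
    | tmul a b =>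
      rw [hσ, map_mul, Algebra.TensorProduct.lmul'_apply_tmul, map_mul, map_mul]
      congr 1
      · exact (hπQ _).trans (MvPolynomial.eval₂Hom_C _ _ _)
      · exact (hπH _).trans (hικ b)
    | add a b ha hb => simp only [map_add, ha, hb]
  have hZσ : ∀ z, Algebra.TensorProduct.lmul' R₀ z = 0 → σ z ∈ Z := fun z hz => by
    obtain ⟨w, hw, hzw⟩ := exists_eq_mul_of_lmul_eq_zero z hz
    refine ⟨1 - σ w, ?_, ?_⟩
    · rw [map_sub, map_one, hπσ, hw, map_zero, map_zero, sub_zero]
    · rw [sub_mul, one_mul, ← map_mul, mul_comm w, ← hzw, sub_self]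
  let mkZ := Ideal.Quotient.mk Z
  letI crZ : CommRing ((Q ⊗[P] H) ⧸ Z) := Ideal.Quotient.commRing Z
  letI algRS : Algebra RS ((Q ⊗[P] H) ⧸ Z) := RingHom.toAlgebra (mkZ.comp (iH.comp (algebraMap RS H)))
  let θH : H →ₐ[RS] (Q ⊗[P] H) ⧸ Z := { mkZ.comp iH with commutes' := fun _ => rfl }
  let θA : A →ₐ[RS] (Q ⊗[P] H) ⧸ Z :=
    { mkZ.comp (iQ.comp MvPolynomial.C) with
      commutes' := fun r => by
        show mkZ (iQ (MvPolynomial.C (algebraMap RS A r))) = mkZ (iH (algebraMap RS H r))
        rw [Ideal.Quotient.eq]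
        have := hZσ (r ⊗ₜ 1 - 1 ⊗ₜ r) (by simp)
        rw [map_sub, hσ, hσ, map_one, map_one, mul_one, one_mul] at this
        exact this }
  let θ : H ⊗[RS] A →+* (Q ⊗[P] H) ⧸ Z := (Algebra.TensorProduct.productMap θH θA).toRingHom
  have hθι : ∀ h, θ (ι h) = mkZ (iH h) := fun h => by
    show θH h * θA 1 = _
    rw [map_one, mul_one]; rfl
  have hθκ : ∀ a, θ (κ a) = mkZ (iQ (MvPolynomial.C a)) := fun a => by
    show θH 1 * θA a = _
    rw [map_one, one_mul]; rfl
  have hθQ : θ.comp jQ = mkZ.comp iQ := by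
    refine MvPolynomial.ringHom_ext (fun a => ?_) fun i => ?_
    · simp only [RingHom.comp_apply, jQ, MvPolynomial.eval₂Hom_C]
      exact hθκ a
    · simp only [RingHom.comp_apply, jQ, MvPolynomial.eval₂Hom_X']
      rw [hθι, ← hiPQ, hQ, MvPolynomial.map_X]
  have hθπ : ∀ x, θ (π x) = mkZ x := fun x => by
    induction x with
    | zero => simp
    | tmul q h =>
      rw [hπ, map_mul, hθι]
      rw [show θ (jQ q) = mkZ (iQ q) from RingHom.congr_fun hθQ q, ← map_mul]
      congr 1
      show q ⊗ₜ[P] (1 : H) * (1 : Q) ⊗ₜ[P] h = _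
      rw [Algebra.TensorProduct.tmul_mul_tmul, one_mul, mul_one]
    | add x y hx hy => simp only [map_add, hx, hy]
  have : mkZ c = 0 := by rw [← hθπ, hc, map_zero]
  exact Ideal.Quotient.eq_zero_iff_mem.1 this

end Kernel

section Domain

variable {R₀ RS A E C : Type u} [CommRing R₀] [CommRing RS] [CommRing A] [CommRing E] [CommRing C]
  [Algebra E C] [Algebra R₀ RS] [Algebra RS A] [Algebra R₀ A] [IsScalarTower R₀ RS A]
  [Algebra.WeaklyEtale R₀ RS] {n : ℕ} [Algebra (MvPolynomial (Fin n) R₀) E]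
  [Algebra.Etale (MvPolynomial (Fin n) R₀) E]
  [Algebra (MvPolynomial (Fin n) R₀) (Hull E C)] [IsScalarTower (MvPolynomial (Fin n) R₀) E (Hull E C)]
  [Algebra RS (Hull E C)] [Algebra R₀ (Hull E C)] [IsScalarTower R₀ RS (Hull E C)]
  [IsScalarTower R₀ (MvPolynomial (Fin n) R₀) (Hull E C)]
  [IsDomain A] [IsIntegrallyClosed A]

include R₀ n in
/-- A local base change of the hull to a normal domain is a domain. -/
theorem isDomain_tensor (hloc : IsLocalRing (Hull E C ⊗[RS] A)) : IsDomain (Hull E C ⊗[RS] A) := by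
  letI : Algebra (MvPolynomial (Fin n) R₀) (MvPolynomial (Fin n) A) :=
    (MvPolynomial.map (algebraMap R₀ A)).toAlgebra
  obtain ⟨π, hπ, hker⟩ := exists_surjective_killed (RS := RS) (H := Hull E C) (A := A) (n := n)
    (R₀ := R₀) rfl
  refine @NoZeroDivisors.to_isDomain _ _ _ ⟨fun {x y} hxy => ?_⟩
  obtain ⟨x', rfl⟩ := hπ x
  obtain ⟨y', rfl⟩ := hπ y
  obtain ⟨t', ht', htxy⟩ := hker (x' * y') (by rw [map_mul, hxy])
  let P := MvPolynomial (Fin n) R₀
  let Q := MvPolynomial (Fin n) A
  obtain ⟨N₁, x₀, rfl⟩ := exists_stageι x'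
  obtain ⟨N₂, y₀, rfl⟩ := exists_stageι y'
  obtain ⟨N₃, t₀, rfl⟩ := exists_stageι t'
  obtain ⟨K₁, f₁, f₂, -⟩ := IsFilteredOrEmpty.cocone_objs N₁ N₂
  obtain ⟨K, g₁, g₂, -⟩ := IsFilteredOrEmpty.cocone_objs K₁ N₃
  rw [← stageι_map (f₁ ≫ g₁) x₀, ← stageι_map (f₂ ≫ g₁) y₀, ← stageι_map g₂ t₀] at htxy
  rw [← stageι_map g₂ t₀] at ht'
  rw [← stageι_map (f₁ ≫ g₁) x₀, ← stageι_map (f₂ ≫ g₁) y₀]
  generalize stageMap P Q (f₁ ≫ g₁) x₀ = x₁ at htxy ⊢
  generalize stageMap P Q (f₂ ≫ g₁) y₀ = y₁ at htxy ⊢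
  generalize stageMap P Q g₂ t₀ = t₁ at htxy ht'
  rw [← map_mul, ← map_mul] at htxy
  obtain ⟨M, f, hf⟩ := exists_stageMap_eq_zero htxy
  rw [map_mul, map_mul] at hf
  rw [← stageι_map f t₁] at ht'
  rw [← stageι_map f x₁, ← stageι_map f y₁]
  generalize stageMap P Q f x₁ = a at hf ⊢
  generalize stageMap P Q f y₁ = b at hf ⊢
  generalize stageMap P Q f t₁ = t at hf ht'
  let πM : Q ⊗[P] M.Ring →+* Hull E C ⊗[RS] A := π.comp (stageι P Q M).toRingHom
  let q := (IsLocalRing.maximalIdeal (Hull E C ⊗[RS] A)).comap πM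
  haveI : Algebra.Etale P M.Ring := Algebra.Etale.comp P E M.Ring
  have hunit : ∀ s ∉ q, IsUnit (πM s) := fun s hs => IsLocalRing.notMem_maximalIdeal.1 hs
  have h0 : ∀ {s z}, s ∉ q → s * z = 0 → πM z = 0 := fun {s z} hs h => by
    have := congrArg πM h
    rw [map_mul, map_zero] at this
    exact (hunit s hs).mul_right_eq_zero.1 this
  have htq : t ∉ q := fun h => by
    have h1 : IsUnit (πM t) := by
      rw [show πM t = 1 from ht']; exact isUnit_one
    exact (IsLocalRing.notMem_maximalIdeal.2 h1) h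
  rcases (isNormalDomain_localization_of_etale Q q).1 a (t * b) ((mul_left_comm a t b).trans hf) with
    ⟨s, hs, h⟩ | ⟨s, hs, h⟩
  · exact Or.inl (h0 hs h)
  · exact Or.inr (h0 (s := s * t) (Ideal.IsPrime.mul_notMem inferInstance hs htq) ((mul_assoc s t b).trans h))

end Domain

section Field

variable (RS K : Type u) [CommRing RS] [Field K] [Algebra RS K]

/-- The fraction field of the integral closure of a ring in an algebraically closed field is algebraically closed. -/
theorem isAlgClosed_fractionRing [IsAlgClosed K] : IsAlgClosed (FractionRing (integralClosure RS K)) := by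
  set A := integralClosure RS K
  set F := FractionRing A
  let j : F →+* K := IsFractionRing.lift (g := algebraMap A K) Subtype.val_injective
  letI : Algebra F K := j.toAlgebra
  haveI : IsScalarTower A F K := IsScalarTower.of_algebraMap_eq fun a => (IsFractionRing.lift_algebraMap _ a).symm
  refine IsAlgClosed.of_exists_root _ fun p hp hirr => ?_
  obtain ⟨r, hr⟩ := IsAlgClosed.exists_root (p.map (algebraMap F K))
    (by rw [Polynomial.degree_map]; exact (Irreducible.degree_pos hirr).ne')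
  have halgF : IsAlgebraic F r := ⟨p, hirr.ne_zero, by
    rwa [Polynomial.IsRoot, Polynomial.eval_map, ← Polynomial.aeval_def] at hr⟩
  obtain ⟨y, hy0, hy⟩ := ((IsFractionRing.isAlgebraic_iff A F K).2 halgF).exists_integral_multiple
  have hyR : IsIntegral RS (y • r) := isIntegral_trans (y • r) hy
  refine ⟨IsLocalization.mk' F (⟨y • r, hyR⟩ : A) ⟨y, mem_nonZeroDivisors_of_ne_zero hy0⟩, j.injective ?_⟩
  have hval : j (IsLocalization.mk' F (⟨y • r, hyR⟩ : A) ⟨y, mem_nonZeroDivisors_of_ne_zero hy0⟩) = r := by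
    show IsFractionRing.lift _ _ = r
    rw [IsFractionRing.lift_mk']
    show (y • r : K) / (y : K) = r
    rw [Algebra.smul_def]
    exact mul_div_cancel_left₀ r (fun h => hy0 (Subtype.ext h))
  rw [map_zero, ← Polynomial.eval_map_apply, hval]
  exact hr

theorem isIntegrallyClosed_integralClosure : IsIntegrallyClosed (integralClosure RS K) := by
  set A := integralClosure RS K
  set F := FractionRing A
  let j : F →+* K := IsFractionRing.lift (g := algebraMap A K) Subtype.val_injective
  rw [isIntegrallyClosed_iff F]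
  intro x hx
  letI : Algebra F K := j.toAlgebra
  haveI : IsScalarTower A F K := IsScalarTower.of_algebraMap_eq fun a => (IsFractionRing.lift_algebraMap _ a).symm
  have h : IsIntegral RS (j x) := isIntegral_trans (R := RS) (A := A) (j x) (hx.map (IsScalarTower.toAlgHom A F K))
  exact ⟨⟨j x, h⟩, j.injective ((IsFractionRing.lift_algebraMap _ _).trans rfl)⟩

end Field

section Main

variable {R₀ RS E C : Type u} [CommRing R₀] [CommRing RS] [HenselianLocalRing RS] [CommRing E] [Field C]
  [Algebra E C] [Algebra R₀ RS] [Algebra.WeaklyEtale R₀ RS] [IsSepClosed (IsLocalRing.ResidueField RS)]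
  {n : ℕ} [Algebra (MvPolynomial (Fin n) R₀) E] [Algebra.Etale (MvPolynomial (Fin n) R₀) E]
  [Algebra (MvPolynomial (Fin n) R₀) (Hull E C)] [IsScalarTower (MvPolynomial (Fin n) R₀) E (Hull E C)]
  [Algebra RS (Hull E C)] [Algebra R₀ (Hull E C)] [IsScalarTower R₀ RS (Hull E C)]
  [IsScalarTower R₀ (MvPolynomial (Fin n) R₀) (Hull E C)]
  [IsLocalHom (algebraMap RS (Hull E C))] [Module.Flat RS (Hull E C)]

theorem isDomain_tensor_fractionRing (A F : Type u) [CommRing A] [Algebra RS A] [CommRing F] [Algebra A F]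
    [Algebra RS F] [IsScalarTower RS A F] [IsFractionRing A F] [IsDomain A] [IsDomain (Hull E C ⊗[RS] A)] :
    IsDomain (Hull E C ⊗[RS] F) := by
  let g : Hull E C ⊗[RS] A →ₐ[RS] Hull E C ⊗[RS] F :=
    Algebra.TensorProduct.map (AlgHom.id RS _) (IsScalarTower.toAlgHom RS A F)
  have hg : Function.Injective g := by
    have := Module.Flat.lTensor_preserves_injective_linearMap (M := Hull E C)
      (IsScalarTower.toAlgHom RS A F).toLinearMap (IsFractionRing.injective A F)
    exact this
  have hsurj : ∀ z : Hull E C ⊗[RS] F, ∃ (a : A) (w : Hull E C ⊗[RS] A),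
      a ∈ nonZeroDivisors A ∧ z * (1 ⊗ₜ algebraMap A F a) = g w := by
    intro z
    induction z with
    | zero => exact ⟨1, 0, one_mem _, by simp⟩
    | tmul h x =>
      obtain ⟨⟨b, s⟩, hs⟩ := IsLocalization.surj (nonZeroDivisors A) x
      refine ⟨s, h ⊗ₜ b, s.2, ?_⟩
      rw [Algebra.TensorProduct.tmul_mul_tmul, mul_one, hs]
      rfl
    | add x y hx hy =>
      obtain ⟨a, w, ha, hw⟩ := hx
      obtain ⟨a', w', ha', hw'⟩ := hy
      refine ⟨a * a', w * (1 ⊗ₜ a') + w' * (1 ⊗ₜ a), mul_mem ha ha', ?_⟩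
      have e : ∀ c : A, g ((1 : Hull E C) ⊗ₜ c) = 1 ⊗ₜ algebraMap A F c := fun c => rfl
      simp only [map_add, map_mul, e]
      rw [← hw, ← hw',
        show (1 : Hull E C) ⊗ₜ[RS] (algebraMap A F a * algebraMap A F a') =
          ((1 : Hull E C) ⊗ₜ[RS] algebraMap A F a) * (1 ⊗ₜ algebraMap A F a') by
            rw [Algebra.TensorProduct.tmul_mul_tmul, one_mul]]
      ring
  haveI : Nontrivial (Hull E C ⊗[RS] F) := hg.nontrivial
  refine @NoZeroDivisors.to_isDomain _ _ _ ⟨fun {x y} hxy => ?_⟩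
  obtain ⟨a, w, ha, hw⟩ := hsurj x
  obtain ⟨a', w', ha', hw'⟩ := hsurj y
  have hu : ∀ c ∈ nonZeroDivisors A, IsUnit ((1 : Hull E C) ⊗ₜ[RS] algebraMap A F c) := fun c hc =>
    (IsLocalization.map_units F ⟨c, hc⟩).map (Algebra.TensorProduct.includeRight (R := RS) (A := Hull E C) (B := F))
  have h0 : w * w' = 0 := hg (by
    rw [map_mul, ← hw, ← hw', map_zero, mul_mul_mul_comm, hxy, zero_mul])
  rcases mul_eq_zero.1 h0 with h | h
  · exact Or.inl ((hu a ha).mul_left_eq_zero.1 (by rw [hw, h, map_zero]))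
  · exact Or.inr ((hu a' ha').mul_left_eq_zero.1 (by rw [hw', h, map_zero]))

include R₀ n in
/-- The geometric fibres are connected. -/
theorem connectedSpace_pullback (K : Type u) [Field K] [IsAlgClosed K] [Algebra RS K] :
    ConnectedSpace ↥(pullback (Spec.map (CommRingCat.ofHom (algebraMap RS (Hull E C))))
      (Spec.map (CommRingCat.ofHom (algebraMap RS K)))) := by
  set A := integralClosure RS K
  set F := FractionRing A
  letI : Algebra R₀ K := ((algebraMap RS K).comp (algebraMap R₀ RS)).toAlgebra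
  haveI : IsScalarTower R₀ RS K := IsScalarTower.of_algebraMap_eq fun _ => rfl
  haveI := isLocalRing_of_integral_domain RS A
  haveI : IsLocalHom (algebraMap RS A) := ((IsLocalRing.local_hom_TFAE (algebraMap RS A)).out 0 4).2 <|
    IsLocalRing.eq_maximalIdeal (Ideal.isMaximal_comap_of_isIntegral_of_isMaximal (IsLocalRing.maximalIdeal A))
  haveI := isIntegrallyClosed_integralClosure RS K
  haveI := isDomain_tensor (R₀ := R₀) (n := n) (isLocalRing_tensor RS (Hull E C) A)
  haveI := isDomain_tensor_fractionRing (RS := RS) (E := E) (C := C) A F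
  haveI := isAlgClosed_fractionRing RS K
  haveI : ConnectedSpace ↥(pullback (Spec.map (CommRingCat.ofHom (algebraMap RS (Hull E C))))
      (Spec.map (CommRingCat.ofHom (algebraMap RS F)))) := by
    haveI : IrreducibleSpace ↥(Spec (CommRingCat.of (Hull E C ⊗[RS] F))) :=
      inferInstanceAs (IrreducibleSpace (PrimeSpectrum _))
    exact (pullbackSpecIso RS (Hull E C) F).inv.homeomorph.surjective.connectedSpace
      (pullbackSpecIso RS (Hull E C) F).inv.continuous
  let j : F →+* K := IsFractionRing.lift (g := algebraMap A K) Subtype.val_injective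
  letI : Algebra F K := j.toAlgebra
  have hj : (algebraMap F K).comp (algebraMap RS F) = algebraMap RS K := RingHom.ext fun r => by
    show j (algebraMap RS F r) = _
    rw [IsScalarTower.algebraMap_apply RS A F, IsFractionRing.lift_algebraMap]
    rfl
  haveI := GrothLib.BaseChange.geometricallyIrreducible_spec_of_isSepClosed F K
  haveI : GeometricallyConnected (Spec.map (CommRingCat.ofHom (algebraMap F K))) := by
    refine ⟨fun M _ y Z fst snd h => ?_⟩
    have := GeometricallyIrreducible.geometrically_irreducibleSpace (f := Spec.map (CommRingCat.ofHom (algebraMap F K))) _ _ _ h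
    infer_instance
  rw [show Spec.map (CommRingCat.ofHom (algebraMap RS K)) =
    Spec.map (CommRingCat.ofHom (algebraMap F K)) ≫ Spec.map (CommRingCat.ofHom (algebraMap RS F)) by
      rw [← Spec.map_comp, ← CommRingCat.ofHom_comp, hj]]
  exact (pullbackLeftPullbackSndIso _ (Spec.map (CommRingCat.ofHom (algebraMap RS F)))
    (Spec.map (CommRingCat.ofHom (algebraMap F K)))).hom.homeomorph.surjective.connectedSpace
    (pullbackLeftPullbackSndIso _ (Spec.map (CommRingCat.ofHom (algebraMap RS F)))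
      (Spec.map (CommRingCat.ofHom (algebraMap F K)))).hom.continuous

end Main

end GrothLib.SmoothConn
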