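import Groth.Agent.Lib.SmoothConn.Main
import Groth.Agent.Lib.EtSec.LocConn
import Groth.Agent.Lib.EtSec.HullWE
import Groth.Agent.Lib.Hensel.Henselization
import Groth.Agent.Lib.AbsFlat.Basic
import Mathlib.AlgebraicGeometry.Morphisms.Smooth
import Mathlib.RingTheory.RingHom.StandardSmooth

/-!
# Smooth morphisms are locally connected
-/

universe u

namespace GrothLib.SmoothConn

open CategoryTheory CategoryTheory.Limits AlgebraicGeometry GrothLib.Hensel IsLocalRing

/-- A strict henselization of a localization is a hull. -/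
theorem exists_ringEquiv_hull (A R RS : Type u) [CommRing A] [CommRing R] [IsLocalRing R] [Algebra A R]
    (p : Ideal A) [p.IsPrime] [IsLocalization.AtPrime R p] [CommRing RS] [IsLocalRing RS] [Algebra R RS]
    [IsLocalHom (algebraMap R RS)] [hRS : _root_.Hensel.IsStrictHenselization R RS] :
    ∃ (C : Type u) (_ : Field C) (_ : Algebra A C) (e : RS ≃+* Hull A C),
      (∀ a, e (algebraMap R RS (algebraMap A R a)) = algebraMap A (Hull A C) a) ∧
      IsSepClosed (ResidueField (Hull A C)) := by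
  haveI := hRS.isSepClosure
  haveI : IsSepClosed (ResidueField RS) := IsSepClosure.sep_closed (ResidueField R)
  haveI : Algebra.IsSeparable (ResidueField R) (ResidueField RS) := IsSepClosure.separable
  letI : Algebra A (ResidueField RS) :=
    ((algebraMap (ResidueField R) (ResidueField RS)).comp (algebraMap A (ResidueField R))).toAlgebra
  haveI : IsScalarTower A (ResidueField R) (ResidueField RS) := IsScalarTower.of_algebraMap_eq fun _ => rfl
  have hp : (maximalIdeal R).comap (algebraMap A R) = p := IsLocalization.AtPrime.comap_maximalIdeal R p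
  haveI : IsLocalization.AtPrime R ((maximalIdeal R).comap (algebraMap A R)) := by
    convert (inferInstance : IsLocalization.AtPrime R p)
  let C := ResidueField RS
  letI : Algebra R (Hull A C) := (EtSec.SHull.toHull C R).toAlgebra
  haveI : IsLocalHom (algebraMap R (Hull A C)) := EtSec.SHull.isLocalHom_toHull (A := A) (R := R) (C := C)
  haveI hH := EtSec.SHull.isStrictHenselization (A := A) (R := R) (C := C) rfl
  obtain ⟨e⟩ := GrothLib.Hensel.IsStrictHenselization.nonempty_algEquiv (R := R) (S := RS) (S' := Hull A C)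
  refine ⟨C, inferInstance, inferInstance, e.toRingEquiv, fun a => ?_, ?_⟩
  · show e _ = _
    rw [e.commutes]
    exact EtSec.SHull.toHull_algebraMap a
  · haveI := hH.isSepClosure
    exact IsSepClosure.sep_closed (ResidueField R)

/-- Smooth morphisms have locally connected geometric fibres. -/
theorem locConnected_of_smooth {X S : Scheme.{u}} (f : X ⟶ S) [Smooth f] : EtSec.LocConnected f := by
  refine EtSec.locConnected_of_strictHenselization f fun x RS _ _ _ _ hRS RX _ _ _ _ hRX ψ _ hψ Ω _ _ η => ?_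
  obtain ⟨V, hV, U, hU, hxU, le, hstd⟩ := Smooth.exists_isStandardSmooth f x
  obtain ⟨n, g, hgC, hg⟩ := hstd.exists_etale_mvPolynomial
  have hfV : f.base x ∈ V := le hxU
  letI algA : Algebra Γ(S, V) (S.presheaf.stalk (f.base x)) := (S.presheaf.germ V (f.base x) hfV).hom.toAlgebra
  letI algB : Algebra Γ(X, U) (X.presheaf.stalk x) := (X.presheaf.germ U x hxU).hom.toAlgebra
  haveI : IsLocalization.AtPrime (S.presheaf.stalk (f.base x)) (hV.primeIdealOf ⟨f.base x, hfV⟩).asIdeal :=
    hV.isLocalization_stalk ⟨f.base x, hfV⟩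
  haveI : IsLocalization.AtPrime (X.presheaf.stalk x) (hU.primeIdealOf ⟨x, hxU⟩).asIdeal :=
    hU.isLocalization_stalk ⟨x, hxU⟩
  have hgerm : ∀ a, f.stalkMap x (S.presheaf.germ V (f.base x) hfV a) =
      X.presheaf.germ U x hxU (f.appLE V U le a) := fun a => by
    rw [Scheme.Hom.germ_stalkMap_apply, Scheme.Hom.appLE]
    exact (TopCat.Presheaf.germ_res_apply X.presheaf (homOfLE le) x hxU _).symm
  obtain ⟨C, _, _, eS, heS, _⟩ := exists_ringEquiv_hull Γ(S, V) (S.presheaf.stalk (f.base x)) RS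
    (hV.primeIdealOf ⟨f.base x, hfV⟩).asIdeal
  obtain ⟨D, _, _, eX, heX, -⟩ := exists_ringEquiv_hull Γ(X, U) (X.presheaf.stalk x) RX
    (hU.primeIdealOf ⟨x, hxU⟩).asIdeal
  let φ : Hull Γ(S, V) C →+* Hull Γ(X, U) D := eX.toRingHom.comp (ψ.comp eS.symm.toRingHom)
  have hφ : ∀ a, φ (algebraMap Γ(S, V) (Hull Γ(S, V) C) a) =
      algebraMap Γ(X, U) (Hull Γ(X, U) D) (f.appLE V U le a) := fun a => by
    show eX (ψ (eS.symm _)) = _
    rw [← heS, RingEquiv.symm_apply_apply]
    refine (congrArg eX (RingHom.congr_fun hψ (algebraMap Γ(S, V) _ a))).trans ?_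
    refine Eq.trans ?_ (heX _)
    exact congrArg (fun z => eX (algebraMap _ RX z)) (hgerm a)
  letI : Algebra (MvPolynomial (Fin n) Γ(S, V)) Γ(X, U) := g.toAlgebra
  haveI : Algebra.Etale (MvPolynomial (Fin n) Γ(S, V)) Γ(X, U) := hg
  letI : Algebra Γ(S, V) Γ(X, U) := (f.appLE V U le).hom.toAlgebra
  haveI : IsScalarTower Γ(S, V) (MvPolynomial (Fin n) Γ(S, V)) Γ(X, U) :=
    IsScalarTower.of_algebraMap_eq' hgC.symm
  letI : Algebra (MvPolynomial (Fin n) Γ(S, V)) (Hull Γ(X, U) D) :=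
    ((algebraMap Γ(X, U) (Hull Γ(X, U) D)).comp g).toAlgebra
  haveI : IsScalarTower (MvPolynomial (Fin n) Γ(S, V)) Γ(X, U) (Hull Γ(X, U) D) :=
    IsScalarTower.of_algebraMap_eq fun _ => rfl
  letI : Algebra Γ(S, V) (Hull Γ(X, U) D) :=
    ((algebraMap Γ(X, U) (Hull Γ(X, U) D)).comp (f.appLE V U le).hom).toAlgebra
  haveI : IsScalarTower Γ(S, V) Γ(X, U) (Hull Γ(X, U) D) := IsScalarTower.of_algebraMap_eq fun _ => rfl
  haveI : IsScalarTower Γ(S, V) (MvPolynomial (Fin n) Γ(S, V)) (Hull Γ(X, U) D) :=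
    IsScalarTower.of_algebraMap_eq fun a =>
      congrArg (algebraMap Γ(X, U) (Hull Γ(X, U) D)) (RingHom.congr_fun hgC a).symm
  letI : Algebra (Hull Γ(S, V) C) (Hull Γ(X, U) D) := φ.toAlgebra
  haveI : IsScalarTower Γ(S, V) (Hull Γ(S, V) C) (Hull Γ(X, U) D) :=
    IsScalarTower.of_algebraMap_eq fun a => (hφ a).symm
  haveI : IsLocalHom (algebraMap (Hull Γ(S, V) C) (Hull Γ(X, U) D)) :=
    ⟨fun a ha => (isUnit_map_iff eS.symm a).1 (isUnit_of_map_unit ψ _ ((isUnit_map_iff eX _).1 ha))⟩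
  haveI hweS := EtSec.weaklyEtale_hull Γ(S, V) C
  haveI hweX := EtSec.weaklyEtale_hull Γ(X, U) D
  haveI : Module.Flat Γ(S, V) Γ(X, U) := by
    rw [← RingHom.flat_algebraMap_iff]
    exact Flat.flat_appLE f hV hU le
  haveI : Module.Flat Γ(S, V) (Hull Γ(X, U) D) := Module.Flat.trans Γ(S, V) Γ(X, U) _
  haveI : Module.Flat (Hull Γ(S, V) C) (Hull Γ(X, U) D) :=
    Groth.Agent.AbsFlat.flat_of_flat_lmul (Algebra.WeaklyEtale.flat_lmul' Γ(S, V) (Hull Γ(S, V) C)) _
  let η' : Hull Γ(S, V) C →+* Ω := (Spec.preimage η).hom.comp eS.symm.toRingHom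
  letI : Algebra (Hull Γ(S, V) C) Ω := η'.toAlgebra
  haveI := connectedSpace_pullback (R₀ := Γ(S, V)) (RS := Hull Γ(S, V) C) (E := Γ(X, U)) (C := D) (n := n) Ω
  have h1 : Spec.map (CommRingCat.ofHom ψ) = Spec.map eX.symm.toCommRingCatIso.hom ≫
      Spec.map (CommRingCat.ofHom (algebraMap (Hull Γ(S, V) C) (Hull Γ(X, U) D))) ≫
        Spec.map eS.toCommRingCatIso.hom := by
    rw [← Spec.map_comp, ← Spec.map_comp]
    congr 1
    ext a
    show ψ a = eX.symm (eX (ψ (eS.symm (eS a))))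
    rw [RingEquiv.symm_apply_apply, RingEquiv.symm_apply_apply]
  have h2 : η = Spec.map (CommRingCat.ofHom (algebraMap (Hull Γ(S, V) C) Ω)) ≫ Spec.map eS.toCommRingCatIso.hom := by
    rw [← Spec.map_comp, ← Spec.map_preimage η]
    congr 1
    ext a
    show (Spec.preimage η).hom a = (Spec.preimage η).hom (eS.symm (eS a))
    rw [RingEquiv.symm_apply_apply]
  rw [h1, h2]
  let m : pullback (Spec.map (CommRingCat.ofHom (algebraMap (Hull Γ(S, V) C) (Hull Γ(X, U) D))))
      (Spec.map (CommRingCat.ofHom (algebraMap (Hull Γ(S, V) C) Ω))) ⟶ _ :=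
    pullback.map _ _
      (Spec.map eX.symm.toCommRingCatIso.hom ≫
        Spec.map (CommRingCat.ofHom (algebraMap (Hull Γ(S, V) C) (Hull Γ(X, U) D))) ≫
          Spec.map eS.toCommRingCatIso.hom)
      (Spec.map (CommRingCat.ofHom (algebraMap (Hull Γ(S, V) C) Ω)) ≫ Spec.map eS.toCommRingCatIso.hom)
      (inv (Spec.map eX.symm.toCommRingCatIso.hom)) (𝟙 _) (Spec.map eS.toCommRingCatIso.hom)
      (by simp) (by simp)
  exact m.homeomorph.surjective.connectedSpace m.continuous

end GrothLib.SmoothConn
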