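import Groth.Agent.Lib.Hensel.Normal
import Groth.Agent.Lib.SpecDense.Core
import Mathlib.RingTheory.TensorProduct.MvPolynomial
import Mathlib.RingTheory.Etale.Basic
import Mathlib.RingTheory.RingHom.Etale

/-!
# Base changes of a hull as filtered colimits
-/

universe u

namespace GrothLib.SmoothConn

open CategoryTheory CategoryTheory.Limits GrothLib.Hensel
open scoped TensorProduct

variable {P E C Q : Type u} [CommRing P] [CommRing E] [CommRing C] [CommRing Q] [Algebra P E] [Algebra E C]
  [Algebra P Q] [Algebra P (Hull E C)] [IsScalarTower P E (Hull E C)]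

variable (P Q) in
/-- The base change of a stage. -/
noncomputable def stageMap {N M : Nbhd E C} (f : N ⟶ M) : Q ⊗[P] N.Ring →ₐ[P] Q ⊗[P] M.Ring :=
  Algebra.TensorProduct.map (AlgHom.id P Q) (f.map.restrictScalars P)

variable (P Q) in
/-- The base change of the map to the hull. -/
noncomputable def stageι (N : Nbhd E C) : Q ⊗[P] N.Ring →ₐ[P] Q ⊗[P] Hull E C :=
  Algebra.TensorProduct.map (AlgHom.id P Q) ((Hull.ι N).restrictScalars P)

omit [Algebra P (Hull E C)] [IsScalarTower P E (Hull E C)] in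
theorem stageMap_tmul {N M : Nbhd E C} (f : N ⟶ M) (q : Q) (a : N.Ring) :
    stageMap P Q f (q ⊗ₜ a) = q ⊗ₜ f.map a := rfl

theorem stageι_tmul (N : Nbhd E C) (q : Q) (a : N.Ring) :
    stageι P Q N (q ⊗ₜ a) = q ⊗ₜ Hull.ι N a := rfl

theorem stageι_map {N M : Nbhd E C} (f : N ⟶ M) (x : Q ⊗[P] N.Ring) :
    stageι P Q M (stageMap P Q f x) = stageι P Q N x := by
  induction x with
  | zero => simp
  | tmul q a => rw [stageMap_tmul, stageι_tmul, stageι_tmul, Hull.ι_map]
  | add x y hx hy => rw [map_add, map_add, map_add, hx, hy]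

theorem exists_stageι (x : Q ⊗[P] Hull E C) : ∃ (N : Nbhd E C) (x₀ : Q ⊗[P] N.Ring), stageι P Q N x₀ = x := by
  induction x with
  | zero => exact ⟨Classical.arbitrary _, 0, map_zero _⟩
  | tmul q b =>
    obtain ⟨N, c, hc⟩ := Hull.exists_ι b
    exact ⟨N, q ⊗ₜ c, by rw [stageι_tmul, hc]⟩
  | add x y hx hy =>
    obtain ⟨N, x₀, rfl⟩ := hx
    obtain ⟨M, y₀, rfl⟩ := hy
    obtain ⟨K, f, g, -⟩ := IsFilteredOrEmpty.cocone_objs N M
    exact ⟨K, stageMap P Q f x₀ + stageMap P Q g y₀, by rw [map_add, stageι_map, stageι_map]⟩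

variable (P E C Q) in
/-- The diagram of base changes. -/
noncomputable def stageDiag : Nbhd E C ⥤ CommRingCat.{u} where
  obj N := CommRingCat.of (Q ⊗[P] N.Ring)
  map f := CommRingCat.ofHom (stageMap P Q f).toRingHom
  map_id N := by
    have e : stageMap P Q (𝟙 N) = AlgHom.id P _ := Algebra.TensorProduct.ext' fun q a => rfl
    exact CommRingCat.hom_ext (RingHom.ext fun x => AlgHom.congr_fun e x)
  map_comp {A B D} f g := by
    have e : stageMap P Q (f ≫ g) = (stageMap P Q g).comp (stageMap P Q f) := Algebra.TensorProduct.ext' fun q a => rfl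
    exact CommRingCat.hom_ext (RingHom.ext fun x => AlgHom.congr_fun e x)

/-- An element vanishing in the base change of the hull vanishes at some stage. -/
theorem exists_stageMap_eq_zero {N : Nbhd E C} {x : Q ⊗[P] N.Ring} (h : stageι P Q N x = 0) :
    ∃ (M : Nbhd E C) (f : N ⟶ M), stageMap P Q f x = 0 := by
  let L : CommRingCat.{u} := colimit (stageDiag P E C Q)
  let lι : ∀ M : Nbhd E C, Q ⊗[P] M.Ring →+* L := fun M => (colimit.ι (stageDiag P E C Q) M).hom
  have hlι : ∀ {A B : Nbhd E C} (f : A ⟶ B) (z : Q ⊗[P] A.Ring), lι B (stageMap P Q f z) = lι A z :=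
    fun f z => ConcreteCategory.congr_hom (colimit.w (stageDiag P E C Q) f) z
  have hE : ∀ (A : Nbhd E C) (e : E),
      lι A (1 ⊗ₜ algebraMap E A.Ring e) = lι N (1 ⊗ₜ algebraMap E N.Ring e) := fun A e => by
    obtain ⟨K, f, g, -⟩ := IsFilteredOrEmpty.cocone_objs A N
    rw [← hlι f, ← hlι g, stageMap_tmul, stageMap_tmul, f.map.commutes, g.map.commutes]
  letI : Algebra E L :=
    ((lι N).comp ((Algebra.TensorProduct.includeRight (R := P) (A := Q) (B := N.Ring)).toRingHom.comp
      (algebraMap E N.Ring))).toAlgebra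
  let l : ∀ M : Nbhd E C, M.Ring →ₐ[E] L := fun M =>
    { (lι M).comp (Algebra.TensorProduct.includeRight (R := P) (A := Q) (B := M.Ring)).toRingHom with
      commutes' := fun e => hE M e }
  let G : Hull E C →ₐ[E] L := Hull.desc l fun {A B} f => AlgHom.ext fun a => by
    show lι B (1 ⊗ₜ f.map a) = lι A (1 ⊗ₜ a)
    rw [← hlι f, stageMap_tmul]
  letI : Algebra P L := ((algebraMap E L).comp (algebraMap P E)).toAlgebra
  have hP : ∀ (A : Nbhd E C) (p : P), lι A (algebraMap P (Q ⊗[P] A.Ring) p) = algebraMap P L p := fun A p => by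
    show _ = lι N (1 ⊗ₜ algebraMap E N.Ring (algebraMap P E p))
    rw [← hE A, Algebra.TensorProduct.algebraMap_apply', ← IsScalarTower.algebraMap_apply P E A.Ring]
  let jQ : Q →ₐ[P] L :=
    { (lι N).comp (Algebra.TensorProduct.includeLeft (R := P) (S := P) (A := Q) (B := N.Ring)).toRingHom with
      commutes' := fun p => (congrArg (lι N)
        (Algebra.TensorProduct.algebraMap_apply (R := P) (S := P) (A := Q) (B := N.Ring) p).symm).trans (hP N p) }
  let jH : Hull E C →ₐ[P] L :=
    { G.toRingHom with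
      commutes' := fun p => by
        show G (algebraMap P (Hull E C) p) = _
        rw [IsScalarTower.algebraMap_apply P E (Hull E C), G.commutes]
        rfl }
  let Φ : Q ⊗[P] Hull E C →ₐ[P] L := Algebra.TensorProduct.productMap jQ jH
  have hQ : ∀ (A : Nbhd E C) (q : Q), lι A (q ⊗ₜ 1) = lι N (q ⊗ₜ 1) := fun A q => by
    obtain ⟨K, f, g, -⟩ := IsFilteredOrEmpty.cocone_objs A N
    rw [← hlι f, ← hlι g, stageMap_tmul, stageMap_tmul, map_one, map_one]
  have key : ∀ (A : Nbhd E C) (z : Q ⊗[P] A.Ring), Φ (stageι P Q A z) = lι A z := fun A z => by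
    induction z with
    | zero => simp
    | tmul q a =>
      rw [stageι_tmul]
      show jQ q * G (Hull.ι A a) = _
      rw [show G (Hull.ι A a) = l A a from Hull.desc_ι _ _ A a]
      show lι N (q ⊗ₜ 1) * lι A (1 ⊗ₜ a) = _
      rw [← hQ A q, ← map_mul, Algebra.TensorProduct.tmul_mul_tmul, mul_one, one_mul]
    | add z w hz hw => rw [map_add, map_add, map_add, hz, hw]
  have h0 : lι N x = lι N 0 := by rw [← key, h, map_zero, map_zero]
  obtain ⟨M, f, g, hfg⟩ := Concrete.colimit_exists_of_rep_eq (stageDiag P E C Q) (i := N) (j := N)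
    x (0 : Q ⊗[P] N.Ring) h0
  exact ⟨M, f, hfg.trans (map_zero (stageMap P Q g))⟩

end GrothLib.SmoothConn
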